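import Mathlib

/-!
# S5745, row `F_4(2)`, `T = L_4(3)` (helper146): explicit matrices in `SL_4(3)`
-/

set_option autoImplicit false

namespace Cfsg.Agent.H146.F42.L43

abbrev K := ZMod 3
abbrev M4 := Matrix (Fin 4) (Fin 4) K
abbrev S4 := Matrix.SpecialLinearGroup (Fin 4) K

/-- the determinant as a polynomial -/
def det4 (m : M4) : K :=
  m 0 0 * (m 1 1 * (m 2 2 * m 3 3 - m 2 3 * m 3 2) - m 1 2 * (m 2 1 * m 3 3 - m 2 3 * m 3 1) +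
    m 1 3 * (m 2 1 * m 3 2 - m 2 2 * m 3 1)) -
  m 0 1 * (m 1 0 * (m 2 2 * m 3 3 - m 2 3 * m 3 2) - m 1 2 * (m 2 0 * m 3 3 - m 2 3 * m 3 0) +
    m 1 3 * (m 2 0 * m 3 2 - m 2 2 * m 3 0)) +
  m 0 2 * (m 1 0 * (m 2 1 * m 3 3 - m 2 3 * m 3 1) - m 1 1 * (m 2 0 * m 3 3 - m 2 3 * m 3 0) +
    m 1 3 * (m 2 0 * m 3 1 - m 2 1 * m 3 0)) -
  m 0 3 * (m 1 0 * (m 2 1 * m 3 2 - m 2 2 * m 3 1) - m 1 1 * (m 2 0 * m 3 2 - m 2 2 * m 3 0) +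
    m 1 2 * (m 2 0 * m 3 1 - m 2 1 * m 3 0))

theorem det4_eq (m : M4) : m.det = det4 m := by
  rw [Matrix.det_succ_row_zero]
  simp only [Matrix.det_fin_three, Fin.sum_univ_succ, Fin.sum_univ_zero, Matrix.submatrix_apply, det4]
  simp [Fin.succAbove, Fin.succ]
  ring

/-- transvections with a common centre -/
def dm (a b c : K) : M4 := !![1, a, b, c; 0, 1, 0, 0; 0, 0, 1, 0; 0, 0, 0, 1]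
/-- `1 + a N + b N² + c E`, `N = e₁₂ + e₂₃` -/
def jm (a b c : K) : M4 := !![1, a, b, c; 0, 1, a, 0; 0, 0, 1, 0; 0, 0, 0, 1]
/-- regular unipotent -/
def rm : M4 := !![1, 1, 0, 0; 0, 1, 1, 0; 0, 0, 1, 1; 0, 0, 0, 1]
/-- an involution commuting with the transvection `dm 0 1 0` -/
def im : M4 := !![2, 0, 0, 0; 0, 1, 0, 0; 0, 0, 2, 0; 0, 0, 0, 1]

def tabD : List M4 := [!![2, 0, 0, 0; 0, 0, 2, 0; 0, 0, 0, 2; 0, 2, 0, 0],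
  !![1, 0, 0, 0; 0, 2, 2, 0; 0, 0, 0, 2; 0, 0, 2, 0],
  !![2, 0, 0, 1; 0, 1, 0, 0; 0, 0, 2, 0; 0, 0, 0, 1],
  !![2, 0, 0, 0; 0, 0, 2, 0; 0, 0, 2, 2; 0, 2, 0, 0],
  !![1, 0, 0, 1; 0, 1, 0, 0; 0, 0, 1, 2; 0, 0, 0, 1],
  !![1, 0, 0, 0; 0, 2, 0, 0; 0, 0, 2, 0; 0, 0, 0, 1],
  !![2, 0, 0, 0; 0, 0, 2, 0; 0, 0, 1, 2; 0, 2, 0, 0],
  !![1, 0, 0, 0; 0, 2, 0, 0; 0, 0, 2, 2; 0, 0, 0, 1],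
  !![2, 0, 0, 0; 0, 0, 0, 1; 0, 2, 0, 0; 0, 0, 1, 0],
  !![2, 0, 0, 0; 0, 0, 2, 0; 0, 2, 0, 2; 0, 2, 0, 0],
  !![1, 0, 0, 0; 0, 0, 0, 1; 0, 1, 0, 2; 0, 0, 1, 0],
  !![2, 0, 0, 0; 0, 0, 0, 1; 0, 2, 2, 0; 0, 0, 1, 0],
  !![2, 0, 0, 0; 0, 0, 2, 0; 0, 2, 2, 2; 0, 2, 0, 0],
  !![1, 0, 0, 0; 0, 0, 0, 1; 0, 1, 1, 2; 0, 0, 1, 0],
  !![1, 0, 0, 0; 0, 0, 0, 1; 0, 1, 2, 0; 0, 0, 1, 0],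
  !![2, 0, 0, 0; 0, 0, 2, 0; 0, 2, 1, 2; 0, 2, 0, 0],
  !![1, 0, 0, 0; 0, 0, 0, 1; 0, 1, 2, 2; 0, 0, 1, 0],
  !![2, 0, 0, 0; 0, 0, 1, 0; 0, 1, 0, 0; 0, 0, 0, 1],
  !![2, 0, 0, 0; 0, 0, 2, 0; 0, 1, 0, 2; 0, 2, 0, 0],
  !![2, 0, 0, 0; 0, 0, 1, 0; 0, 1, 0, 1; 0, 0, 0, 1],
  !![1, 0, 0, 0; 0, 0, 1, 0; 0, 2, 1, 0; 0, 0, 0, 1],
  !![2, 0, 0, 0; 0, 0, 2, 0; 0, 1, 2, 2; 0, 2, 0, 0],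
  !![2, 0, 0, 0; 0, 0, 1, 0; 0, 1, 2, 1; 0, 0, 0, 1],
  !![1, 0, 0, 0; 0, 2, 0, 0; 0, 2, 2, 0; 0, 0, 0, 1],
  !![2, 0, 0, 0; 0, 0, 2, 0; 0, 1, 1, 2; 0, 2, 0, 0],
  !![1, 0, 0, 0; 0, 2, 0, 0; 0, 2, 2, 2; 0, 0, 0, 1]]

def tabJ : List M4 := [!![2, 0, 0, 0; 0, 2, 0, 0; 0, 0, 2, 0; 0, 0, 0, 2],
  !![2, 0, 0, 0; 0, 2, 0, 2; 0, 0, 2, 0; 0, 0, 0, 2],
  !![2, 0, 0, 0; 0, 2, 0, 1; 0, 0, 2, 0; 0, 0, 0, 2],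
  !![2, 0, 0, 0; 0, 2, 2, 0; 0, 0, 2, 0; 0, 0, 0, 2],
  !![2, 0, 0, 0; 0, 2, 2, 2; 0, 0, 2, 0; 0, 0, 0, 2],
  !![2, 0, 0, 0; 0, 2, 2, 1; 0, 0, 2, 0; 0, 0, 0, 2],
  !![2, 0, 0, 0; 0, 2, 1, 0; 0, 0, 2, 0; 0, 0, 0, 2],
  !![2, 0, 0, 0; 0, 2, 1, 2; 0, 0, 2, 0; 0, 0, 0, 2],
  !![2, 0, 0, 0; 0, 2, 1, 1; 0, 0, 2, 0; 0, 0, 0, 2],
  !![1, 0, 0, 0; 0, 2, 0, 0; 0, 0, 1, 0; 0, 0, 0, 2],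
  !![1, 0, 0, 0; 0, 2, 0, 1; 0, 0, 1, 0; 0, 0, 0, 2],
  !![1, 0, 0, 0; 0, 2, 0, 2; 0, 0, 1, 0; 0, 0, 0, 2],
  !![2, 0, 0, 0; 0, 1, 2, 0; 0, 0, 2, 0; 0, 0, 0, 1],
  !![2, 0, 0, 0; 0, 1, 2, 2; 0, 0, 2, 0; 0, 0, 0, 1],
  !![2, 0, 0, 0; 0, 1, 2, 1; 0, 0, 2, 0; 0, 0, 0, 1],
  !![2, 0, 0, 0; 0, 1, 1, 0; 0, 0, 2, 0; 0, 0, 0, 1],
  !![2, 0, 0, 0; 0, 1, 1, 2; 0, 0, 2, 0; 0, 0, 0, 1],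
  !![2, 0, 0, 0; 0, 1, 1, 1; 0, 0, 2, 0; 0, 0, 0, 1]]

def g40 : M4 := !![0, 1, 0, 0; 0, 0, 1, 0; 0, 0, 0, 2; 1, 0, 1, 2]
def g5 : M4 := !![2, 2, 2, 1; 1, 2, 0, 0; 0, 1, 2, 0; 0, 0, 2, 2]
def f5 : M4 := !![0, 2, 2, 0; 0, 1, 0, 2; 2, 1, 1, 0; 0, 1, 0, 1]

theorem dconj : ∀ a b c : K, (a, b, c) ≠ (0, 0, 0) →
    ∃ h ∈ tabD, det4 h = 1 ∧ h * dm a b c = dm 0 1 0 * h := by decide +kernel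

theorem jconj : ∀ a b c : K, a ≠ 0 → ∃ h ∈ tabJ, det4 h = 1 ∧ h * jm a b c = jm 1 0 0 * h := by decide +kernel

theorem det_dm : ∀ a b c : K, det4 (dm a b c) = 1 := by decide +kernel
theorem det_jm : ∀ a b c : K, det4 (jm a b c) = 1 := by decide +kernel
theorem det_rm : det4 rm = 1 := by decide +kernel
theorem det_im : det4 im = 1 := by decide +kernel
theorem det_g40 : det4 g40 = 1 := by decide +kernel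
theorem det_g5 : det4 g5 = 1 := by decide +kernel
theorem det_f5 : det4 f5 = 1 := by decide +kernel

theorem im_sq : im * im = 1 := by decide +kernel
theorem im_comm : im * dm 0 1 0 = dm 0 1 0 * im := by decide +kernel
theorem g40_two : g40 * g40 * (g40 * g40) * (g40 * g40 * (g40 * g40)) = g5 := by decide +kernel
theorem g5_five : g5 * g5 * (g5 * g5) * g5 = 1 := by decide +kernel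
theorem f5_conj : f5 * g5 = (g5 * g5) * f5 := by decide +kernel
theorem g5_ne : g5 ≠ 1 := by decide +kernel
/-- `g40 ^ 4, g40 ^ 20 = -1` -/
theorem g40_20 : g5 * g5 * (g40 * g40 * (g40 * g40)) = -1 := by decide +kernel

end Cfsg.Agent.H146.F42.L43
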