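import Cfsg.Agent.H146.F42.Fus
import Cfsg.Agent.H146.F42.L43Data

/-!
# S5745, row `F_4(2)`, `T = L_4(3)` (helper146): the elements of type `J_3 + J_1` are not of type `C_3 T_1`, `B_3 T_1`
-/

set_option autoImplicit false
set_option linter.unusedSectionVars false

namespace Cfsg.Agent.H146.F42.L43

/-- element of `SL_4(3)` -/
def mkS (m : M4) (h : det4 m = 1) : S4 := ⟨m, by rw [det4_eq]; exact h⟩

theorem mkS_coe (m : M4) (h : det4 m = 1) : ((mkS m h : S4) : M4) = m := rfl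

def dS (a b c : K) : S4 := mkS (dm a b c) (det_dm a b c)
def jS (a b c : K) : S4 := mkS (jm a b c) (det_jm a b c)
def iS : S4 := mkS im det_im

theorem dS_mul (a b c a' b' c' : K) : dS a b c * dS a' b' c' = dS (a + a') (b + b') (c + c') := by
  apply Subtype.ext
  show dm a b c * dm a' b' c' = dm (a + a') (b + b') (c + c')
  ext i j
  fin_cases i <;> fin_cases j <;> simp [dm, Matrix.mul_apply, Fin.sum_univ_four] <;> ring

theorem jS_mul_dS (a b c b' c' : K) : jS a b c * dS 0 b' c' = jS a (b + b') (c + c') := by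
  apply Subtype.ext
  show jm a b c * dm 0 b' c' = jm a (b + b') (c + c')
  ext i j
  fin_cases i <;> fin_cases j <;> simp [dm, jm, Matrix.mul_apply, Fin.sum_univ_four] <;> ring

theorem dS_mul_jS (a b c b' c' : K) : dS 0 b' c' * jS a b c = jS a (b + b') (c + c') := by
  apply Subtype.ext
  show dm 0 b' c' * jm a b c = jm a (b + b') (c + c')
  ext i j
  fin_cases i <;> fin_cases j <;> simp [dm, jm, Matrix.mul_apply, Fin.sum_univ_four] <;> ring

theorem dS_one : dS 0 0 0 = 1 := by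
  apply Subtype.ext
  show dm 0 0 0 = 1
  decide +kernel

theorem dS_inv (a b c : K) : (dS a b c)⁻¹ = dS (-a) (-b) (-c) := by
  rw [inv_eq_iff_mul_eq_one, dS_mul, add_neg_cancel, add_neg_cancel, add_neg_cancel, dS_one]

theorem jm_inv : ∀ a b c : K, jm a b c * jm (-a) (a * a - b) (-c) = 1 := by decide +kernel

theorem jS_inv (a b c : K) : (jS a b c)⁻¹ = jS (-a) (a * a - b) (-c) := by
  rw [inv_eq_iff_mul_eq_one]
  apply Subtype.ext
  exact jm_inv a b c

theorem dm_cube : ∀ a b c : K, dm a b c * dm a b c * dm a b c = 1 := by decide +kernel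
theorem jm_cube : ∀ a b c : K, jm a b c * jm a b c * jm a b c = 1 := by decide +kernel

theorem dS_cube (a b c : K) : dS a b c ^ 3 = 1 := by
  apply Subtype.ext
  rw [pow_succ, pow_two]
  exact dm_cube a b c

theorem jS_cube (a b c : K) : jS a b c ^ 3 = 1 := by
  apply Subtype.ext
  rw [pow_succ, pow_two]
  exact jm_cube a b c

theorem dS_conj {a b c : K} (h : (a, b, c) ≠ (0, 0, 0)) : IsConj (dS a b c) (dS 0 1 0) := by
  obtain ⟨m, -, h1, h2⟩ := dconj a b c h
  rw [isConj_iff]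
  refine ⟨mkS m h1, ?_⟩
  rw [mul_inv_eq_iff_eq_mul]
  exact Subtype.ext h2

theorem jS_conj {a b c : K} (h : a ≠ 0) : IsConj (jS a b c) (jS 1 0 0) := by
  obtain ⟨m, -, h1, h2⟩ := jconj a b c h
  rw [isConj_iff]
  refine ⟨mkS m h1, ?_⟩
  rw [mul_inv_eq_iff_eq_mul]
  exact Subtype.ext h2

theorem iS_sq : iS * iS = 1 := Subtype.ext im_sq
theorem iS_comm : iS * dS 0 1 0 = dS 0 1 0 * iS := Subtype.ext im_comm

section act

variable {Y U : Type*} [Group Y] [Finite Y] [AddCommGroup U] [Finite U] [DistribMulAction Y U]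

theorem F1_conj {x y : Y} (h : IsConj x y) : F1 U x = F1 U y := by
  obtain ⟨g, rfl⟩ := isConj_iff.1 h
  refine Nat.card_congr ⟨fun u => ⟨g • u.1, ?_⟩, fun u => ⟨g⁻¹ • u.1, ?_⟩, fun u => ?_, fun u => ?_⟩
  · rw [mul_smul, mul_smul, inv_smul_smul, u.2]
  · have h1 := u.2
    rw [mul_smul, mul_smul] at h1
    exact eq_inv_smul_iff.2 h1
  · exact Subtype.ext (inv_smul_smul g u.1)
  · exact Subtype.ext (smul_inv_smul g u.1)

theorem card_cent_conj {x y : Y} (h : IsConj x y) :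
    Nat.card (Subgroup.centralizer ({x} : Set Y)) = Nat.card (Subgroup.centralizer ({y} : Set Y)) := by
  obtain ⟨g, rfl⟩ := isConj_iff.1 h
  refine Nat.card_congr ⟨fun u => ⟨g * u.1 * g⁻¹, ?_⟩, fun u => ⟨g⁻¹ * u.1 * g, ?_⟩, fun u => ?_, fun u => ?_⟩
  · have h1 := Subgroup.mem_centralizer_singleton_iff.1 u.2
    rw [Subgroup.mem_centralizer_singleton_iff]
    calc g * u.1 * g⁻¹ * (g * x * g⁻¹) = g * (u.1 * x) * g⁻¹ := by group
      _ = g * (x * u.1) * g⁻¹ := by rw [h1]
      _ = _ := by group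
  · have h1 := Subgroup.mem_centralizer_singleton_iff.1 u.2
    rw [Subgroup.mem_centralizer_singleton_iff]
    calc g⁻¹ * u.1 * g * x = g⁻¹ * (u.1 * (g * x * g⁻¹)) * g := by group
      _ = g⁻¹ * ((g * x * g⁻¹) * u.1) * g := by rw [h1]
      _ = _ := by group
  · exact Subtype.ext (by simp only []; group)
  · exact Subtype.ext (by simp only []; group)

/-- **the fusion lemma** -/
theorem fusion (hexp : ∀ u : U, 2 • u = 0) (hU : Nat.card U = 2 ^ 52) (ψ : S4 →* Y)
    (hker : ∀ g : S4, ψ g = 1 → (g : M4) = 1 ∨ (g : M4) = -1)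
    (three : ∀ x : Y, orderOf x = 3 → 2 ∣ Nat.card (Subgroup.centralizer ({x} : Set Y)) →
      F1 U x = 2 ^ 22 ∨ F1 U x = 2 ^ 16) : F1 U (ψ (jS 1 0 0)) ≠ 2 ^ 22 := by
  intro hj
  -- transvections
  have hD : ∀ a b c : K, (a, b, c) ≠ (0, 0, 0) → F1 U (ψ (dS a b c)) = F1 U (ψ (dS 0 1 0)) := fun a b c h =>
    F1_conj (ψ.map_isConj (dS_conj h))
  have hJ : ∀ a b c : K, a ≠ 0 → F1 U (ψ (jS a b c)) = 2 ^ 22 := fun a b c h => by
    rw [← hj]
    exact F1_conj (ψ.map_isConj (jS_conj h))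
  have h3D : ∀ a b c : K, ψ (dS a b c) ^ 3 = 1 := fun a b c => by rw [← map_pow, dS_cube, map_one]
  have h3J : ∀ a b c : K, ψ (jS a b c) ^ 3 = 1 := fun a b c => by rw [← map_pow, jS_cube, map_one]
  have hz : orderOf (ψ (dS 0 1 0)) = 3 := by
    apply orderOf_eq_prime (h3D 0 1 0)
    intro h1
    rcases hker _ h1 with h2 | h2
    · have h3 := congrFun (congrFun h2 0) 2
      revert h3
      decide
    · have h3 := congrFun (congrFun h2 0) 0
      revert h3
      decide
  have hi2 : orderOf (ψ iS) = 2 := by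
    apply orderOf_eq_prime
    · rw [pow_two, ← map_mul, iS_sq, map_one]
    · intro h1
      rcases hker _ h1 with h2 | h2
      · have h3 := congrFun (congrFun h2 0) 0
        revert h3
        decide
      · have h3 := congrFun (congrFun h2 1) 1
        revert h3
        decide
  have hev : 2 ∣ Nat.card (Subgroup.centralizer ({ψ (dS 0 1 0)} : Set Y)) := by
    have h1 : ψ iS ∈ Subgroup.centralizer ({ψ (dS 0 1 0)} : Set Y) := by
      rw [Subgroup.mem_centralizer_singleton_iff, ← map_mul, iS_comm, map_mul]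
    have h2 : orderOf (⟨ψ iS, h1⟩ : Subgroup.centralizer ({ψ (dS 0 1 0)} : Set Y)) = 2 := by
      rw [← Subgroup.orderOf_coe]
      exact hi2
    rw [← h2]
    exact orderOf_dvd_natCard _
  rcases three _ hz hev with h22 | h16
  · -- all transvections have `2 ^ 22`
    refine not_all hexp hU (z := ψ (dS 0 1 0)) (x := ψ (dS 1 0 0)) (y := ψ (dS 0 0 1)) (h3D _ _ _) (h3D _ _ _)
      (h3D _ _ _) ?_ ?_ ?_ ?_ ?_ h22 ?_
    · rw [← map_mul, dS_mul]; exact h3D _ _ _
    · rw [← map_inv, dS_inv, ← map_mul, dS_mul]; exact h3D _ _ _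
    · rw [← map_mul, ← map_mul, dS_mul, dS_mul]; congr 2 <;> ring
    · rw [← map_mul, ← map_mul, dS_mul, dS_mul]; congr 2 <;> ring
    · intro u _
      rw [← mul_smul, ← mul_smul, ← map_mul, ← map_mul, dS_mul, dS_mul]
      congr 3 <;> ring
    · have key : ∀ a c : K, (a, c) ≠ (0, 0) → ∀ w : Y, w = ψ (dS a 0 c) → F1 U w = 2 ^ 22 ∧
          F1 U (ψ (dS 0 1 0) * w) = 2 ^ 22 ∧ F1 U (ψ (dS 0 1 0) * w⁻¹) = 2 ^ 22 := by
        rintro a c hac w rfl
        rw [← map_inv, dS_inv, ← map_mul, ← map_mul, dS_mul, dS_mul]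
        refine ⟨?_, ?_, ?_⟩
        · rw [hD, h22]
          intro h; apply hac; simp only [Prod.mk.injEq] at h ⊢; exact ⟨h.1, h.2.2⟩
        · rw [hD, h22]
          intro h; simp only [Prod.mk.injEq] at h; revert h; simp
        · rw [hD, h22]
          intro h; simp only [Prod.mk.injEq] at h; revert h; simp
      rintro w (rfl | rfl | rfl | rfl)
      · exact key 1 0 (by decide) _ rfl
      · exact key 0 1 (by decide) _ rfl
      · exact key 1 1 (by decide) _ (by rw [← map_mul, dS_mul]; congr 2 <;> decide)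
      · exact key 1 (-1) (by decide) _ (by rw [← map_inv, dS_inv, ← map_mul, dS_mul]; congr 2 <;> decide)
  · -- all transvections have `2 ^ 16`
    refine not_mixed hexp hU (z := ψ (dS 0 1 0)) (x := ψ (jS 1 0 0)) (a := ψ (dS 0 0 1)) (h3D _ _ _) (h3J _ _ _)
      (h3D _ _ _) ?_ ?_ ?_ h16 ?_ ?_ ?_ ?_
    · rw [← map_mul, ← map_mul, jS_mul_dS, dS_mul_jS]
    · rw [← map_mul, ← map_mul, dS_mul, dS_mul]; congr 2 <;> ring
    · rw [← map_mul, ← map_mul, jS_mul_dS, dS_mul_jS]
    · rw [hD _ _ _ (by decide), h16]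
    · rw [← map_mul, dS_mul, hD _ _ _ (by decide), h16]
    · rw [← map_inv, dS_inv, ← map_mul, dS_mul, hD _ _ _ (by decide), h16]
    · have key : ∀ c : K, ∀ w : Y, w = ψ (jS 1 0 c) → F1 U w = 2 ^ 22 ∧
          F1 U (ψ (dS 0 1 0) * w) = 2 ^ 22 ∧ F1 U (ψ (dS 0 1 0) * w⁻¹) = 2 ^ 22 := by
        rintro c w rfl
        rw [← map_inv, jS_inv, ← map_mul, ← map_mul, dS_mul_jS, dS_mul_jS]
        exact ⟨hJ _ _ _ (by decide), hJ _ _ _ (by decide), hJ _ _ _ (by decide)⟩
      rintro w (rfl | rfl | rfl)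
      · exact key 0 _ rfl
      · exact key 1 _ (by rw [← map_mul, jS_mul_dS]; congr 2 <;> decide)
      · exact key (-1) _ (by rw [← map_inv, dS_inv, ← map_mul, neg_zero, jS_mul_dS]; congr 2 <;> decide)

end act

end Cfsg.Agent.H146.F42.L43
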