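import Cfsg.Agent.H146.F42.TitsRow
import Cfsg.Agent.H146.F42.Dims
import Cfsg.Agent.H23.OZ.FourTwo

/-!
# S5745, row `F_4(2)` (helper146): orders of `L_2(q)`, transport of the data
-/

set_option autoImplicit false
set_option linter.unusedSectionVars false

namespace Cfsg.Agent.H146.F42

open Subgroup Cfsg Cfsg.Agent.H284 Cfsg.Agent.H209.EPX Cfsg.Agent.H742.EX

theorem P_mono {a b : ℕ} (h : a ≤ b) : a * (a * a - 1) ≤ b * (b * b - 1) :=
  Nat.mul_le_mul h (Nat.sub_le_sub_right (Nat.mul_le_mul h h) 1)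

/-- `|L_2(q)|` is not `m` -/
theorem card_psl_two {F : Type} [Field F] [Fintype F] {m a b : ℕ}
    (hm : Nat.card (Matrix.ProjectiveSpecialLinearGroup (Fin 2) F) = m)
    (ha : a * (a * a - 1) < m) (ha' : m < (a + 1) * ((a + 1) * (a + 1) - 1))
    (hb : b * (b * b - 1) < 2 * m) (hb' : 2 * m < (b + 1) * ((b + 1) * (b + 1) - 1)) : False := by
  obtain ⟨q, hq⟩ : ∃ q, Fintype.card F = q := ⟨_, rfl⟩
  have h1 := Cfsg.Agent.S0243.result hq 2 (by norm_num)
  have hq1 : 1 < q := by rw [← hq]; exact Fintype.one_lt_card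
  rw [Fin.prod_univ_two, hm] at h1
  simp only [Fin.val_zero, pow_zero, Fin.val_one, pow_one] at h1
  have h2 : q ^ 2 - q = (q - 1) * q := by
    rw [Nat.sub_mul, one_mul, pow_two]
  have h3 : Nat.gcd 2 (q - 1) * m = q * (q * q - 1) := by
    have h4 : (q - 1) * (Nat.gcd 2 (q - 1) * m) = (q - 1) * (q * (q * q - 1)) := by
      calc (q - 1) * (Nat.gcd 2 (q - 1) * m) = Nat.gcd 2 (q - 1) * ((q - 1) * m) := by ring
        _ = (q ^ 2 - 1) * (q ^ 2 - q) := h1
        _ = (q ^ 2 - 1) * ((q - 1) * q) := by rw [h2]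
        _ = (q - 1) * (q * (q ^ 2 - 1)) := by ring
        _ = _ := by rw [pow_two]
    exact Nat.eq_of_mul_eq_mul_left (by omega) h4
  have hg : Nat.gcd 2 (q - 1) = 1 ∨ Nat.gcd 2 (q - 1) = 2 := (Nat.dvd_prime Nat.prime_two).1 (Nat.gcd_dvd_left _ _)
  rcases hg with hg | hg
  · rw [hg, one_mul] at h3
    rcases Nat.lt_or_ge a q with h5 | h5
    · have := P_mono (show a + 1 ≤ q from h5)
      omega
    · have := P_mono h5
      omega
  · rw [hg] at h3
    rcases Nat.lt_or_ge b q with h5 | h5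
    · have := P_mono (show b + 1 ≤ q from h5)
      omega
    · have := P_mono h5
      omega

theorem no_psl_l43 {T : Type} [Group T] (hT : Nat.card T = 6065280) {F : Type} [Field F] [Fintype F]
    (f : T ≃* Matrix.ProjectiveSpecialLinearGroup (Fin 2) F) : False :=
  card_psl_two (m := 6065280) (a := 182) (b := 229) ((Nat.card_congr f.toEquiv).symm.trans hT) (by norm_num) (by norm_num)
    (by norm_num) (by norm_num)

theorem no_psl_tits {T : Type} [Group T] (hT : Nat.card T = 17971200) {F : Type} [Field F] [Fintype F]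
    (f : T ≃* Matrix.ProjectiveSpecialLinearGroup (Fin 2) F) : False :=
  card_psl_two (m := 17971200) (a := 261) (b := 330) ((Nat.card_congr f.toEquiv).symm.trans hT) (by norm_num) (by norm_num)
    (by norm_num) (by norm_num)

/-- transport along an isomorphism -/
theorem Data.congr {G G' : Type*} [Group G] [Group G'] {U : Type*} [AddCommGroup U] [DistribMulAction G' U] {c3 : ℕ}
    (f : G ≃* G') (D : Data G' U c3) :
    @Data G _ U _ (DistribMulAction.compHom U f.toMonoidHom) c3 := by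
  let _ : DistribMulAction G U := DistribMulAction.compHom U f.toMonoidHom
  have hF : ∀ x : G, F1 U x = F1 U (f x) := fun x => rfl
  have hC : ∀ x : G, Nat.card (centralizer ({x} : Set G)) = Nat.card (centralizer ({f x} : Set G')) := by
    intro x
    refine Nat.card_congr (Equiv.subtypeEquiv f.toEquiv fun g => ?_)
    rw [mem_centralizer_singleton_iff, mem_centralizer_singleton_iff]
    show g * x = x * g ↔ f g * f x = f x * f g
    rw [← map_mul, ← map_mul, f.injective.eq_iff]
  refine ⟨(Nat.card_congr f.toEquiv).trans D.card, D.exp, D.cardU, ?_, ?_, ?_, ?_⟩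
  · intro x hx h2
    rw [hF, hC]
    rw [hC] at h2
    exact D.three (f x) (by rw [f.orderOf_eq, hx]) h2
  · intro x hx h2
    rw [hC] at h2 ⊢
    exact D.odd (f x) (by rw [f.orderOf_eq, hx]) h2
  · intro x hx
    rw [hC]
    exact D.five (f x) (by rw [f.orderOf_eq, hx])
  · intro x hx
    rw [hC]
    exact D.thirteen (f x) (by rw [f.orderOf_eq, hx])

section abs

variable {G G' : Type*} [Group G] [Finite G] [Group G'] {U : Type*} [AddCommGroup U] [Finite U] [DistribMulAction G' U]
  (f : G ≃* G') {H N : Subgroup G} {T : Type} [Group T] {e : N ≃* (Fin 1 → T)} (h : EPS H N e)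
  (hM : ∀ g ∉ H, ∃ r ∈ (Nat.card H).primeFactors.erase 2, r ∣ Nat.card (H ⊓ cj g H : Subgroup G))

include f h hM

theorem l43_abs (D : Data G' U 233280) {K : Type} [Field K] [Fintype K] (hK : Fintype.card K = 3)
    (eT : T ≃* Matrix.ProjectiveSpecialLinearGroup (Fin 4) K) : False := by
  have hTf : Finite T := Finite.of_equiv _ eT.symm.toEquiv
  let _ : DistribMulAction G U := DistribMulAction.compHom U f.toMonoidHom
  have hK3 : Fintype.card (ZMod 3) = Fintype.card K := by rw [hK, ZMod.card]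
  let eT' : T ≃* L43.P4 := eT.trans (Cfsg.Agent.LieClassical.FieldTransfer.pslCongr (FiniteField.ringEquivOfCardEq hK3.symm))
  refine L43.row h eT' (fun g hg => ?_) (D.congr f)
  obtain ⟨r, hr, hd⟩ := hM g hg
  obtain ⟨h2, hr⟩ := Finset.mem_erase.1 hr
  refine ⟨r, Cfsg.Agent.H686.EX.cases_of (a := 9) (b := 6) (c := 1) (d := 1) (Nat.prime_of_mem_primeFactors hr) h2
    (by norm_num) (by norm_num) ?_, hd⟩
  have h3 := (Nat.dvd_of_mem_primeFactors hr).trans (Cfsg.Agent.H686.EX.card_dvd h)
  rw [Nat.card_congr eT'.toEquiv, L43.card_P4, Cfsg.Agent.H548.Crit.card_out_congr eT', L43.out_P4] at h3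
  simpa using h3

theorem tits_abs (D : Data G' U 180000) (hT : Cfsg.Lie.IsoTits T) : False := by
  have td := Cfsg.Agent.H631.TitsD.td_of hT
  have hTf : Finite T := Nat.finite_of_card_ne_zero (by rw [td.card]; norm_num)
  let _ : DistribMulAction G U := DistribMulAction.compHom U f.toMonoidHom
  refine Tits.row h hT (fun g hg => ?_) (D.congr f)
  obtain ⟨r, hr, hd⟩ := hM g hg
  obtain ⟨h2, hr⟩ := Finset.mem_erase.1 hr
  refine ⟨r, Cfsg.Agent.H686.EX.cases_of (a := 12) (b := 3) (c := 2) (d := 1) (Nat.prime_of_mem_primeFactors hr) h2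
    (by norm_num) (by norm_num) ?_, hd⟩
  have h3 := (Nat.dvd_of_mem_primeFactors hr).trans (Cfsg.Agent.H686.EX.card_dvd h)
  rw [td.card] at h3
  have h4 := h3.trans (Nat.mul_dvd_mul_left 17971200 (Cfsg.Agent.H997.PF.OutPart.card_out_tits hT))
  simpa using h4

end abs

open Cfsg.Lie in
/-- `L_4(3)` in `F_4(2)` -/
theorem f4_l43_of (D : Data Cfsg.Agent.FourTwo.Base.LL UU 233280) {F : Type} [Field F] [Fintype F] (hF : Fintype.card F = 2)
    {H N : Subgroup ↥(chevF4.group F)} {T : Type} [Group T] {e : N ≃* (Fin 1 → T)} (h : EPS H N e)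
    {K : Type} [Field K] [Fintype K] (hK : Fintype.card K = 3) (eT : T ≃* Matrix.ProjectiveSpecialLinearGroup (Fin 4) K)
    (hM : ∀ g ∉ H, ∃ r ∈ (Nat.card H).primeFactors.erase 2, r ∣ Nat.card (H ⊓ cj g H : Subgroup ↥(chevF4.group F))) :
    False := by
  obtain ⟨f⟩ := Cfsg.Agent.H23.OZ.F42.exists_equiv hF
  have hfin : Finite ↥(chevF4.group F) := inferInstance
  have h1 := @l43_abs ↥(chevF4.group F) Cfsg.Agent.FourTwo.Base.LL inferInstance hfin inferInstance UU inferInstance
    inferInstance inferInstance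
  exact h1 f h hM D hK eT

open Cfsg.Lie in
/-- the Tits group in `F_4(2)` -/
theorem f4_tits_of (D : Data Cfsg.Agent.FourTwo.Base.LL UU 180000) {F : Type} [Field F] [Fintype F] (hF : Fintype.card F = 2)
    {H N : Subgroup ↥(chevF4.group F)} {T : Type} [Group T] {e : N ≃* (Fin 1 → T)} (h : EPS H N e) (hT : IsoTits T)
    (hM : ∀ g ∉ H, ∃ r ∈ (Nat.card H).primeFactors.erase 2, r ∣ Nat.card (H ⊓ cj g H : Subgroup ↥(chevF4.group F))) :
    False := by
  obtain ⟨f⟩ := Cfsg.Agent.H23.OZ.F42.exists_equiv hF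
  have hfin : Finite ↥(chevF4.group F) := inferInstance
  have h1 := @tits_abs ↥(chevF4.group F) Cfsg.Agent.FourTwo.Base.LL inferInstance hfin inferInstance UU inferInstance
    inferInstance inferInstance
  exact h1 f h hM D hT

end Cfsg.Agent.H146.F42
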