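import Cfsg.Agent.H146.F42.L43Row
import Cfsg.Agent.H631.TitsD.Data
import Cfsg.Agent.H235.TitsRow
import Cfsg.Agent.H997.PF.OutPart

/-!
# S5745, row `F_4(2)`, `T` = the Tits group (helper146)
-/

set_option autoImplicit false
set_option linter.unusedSectionVars false

namespace Cfsg.Agent.H146.F42.Tits

open Subgroup Cfsg Cfsg.Agent.H284 Cfsg.Agent.H209.EPX Cfsg.Agent.H742.EX

section act

variable {Y U : Type*} [Group Y] [Finite Y] [AddCommGroup U] [Finite U] [DistribMulAction Y U]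

open Cfsg.Agent.H87.TitsAbs in
/-- **fusion**: the elements of order 3 of the Tits group do not have `|C_U(x)| = 2 ^ 22` -/
theorem fusion (hexp : ∀ u : U, 2 • u = 0) (hU : Nat.card U = 2 ^ 52) {X : Type*} [Group X] (D : Dat X) (ι : X →* Y) :
    F1 U (ι D.t) ≠ 2 ^ 22 := by
  intro h22
  have hF : ∀ a b c : ℕ, ¬ (3 ∣ a ∧ 3 ∣ b ∧ 3 ∣ c) → F1 U (ι (D.m a b c)) = 2 ^ 22 := by
    intro a b c h
    rw [← h22]
    exact L43.F1_conj (ι.map_isConj (D.m_isConj h))
  have h3 : ∀ a b c : ℕ, ι (D.m a b c) ^ 3 = 1 := by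
    intro a b c
    rw [← map_pow]
    by_cases h : 3 ∣ a ∧ 3 ∣ b ∧ 3 ∣ c
    · have h1 : D.m a b c = 1 := by
        rw [D.m_mod, Nat.mod_eq_zero_of_dvd h.1, Nat.mod_eq_zero_of_dvd h.2.1, Nat.mod_eq_zero_of_dvd h.2.2]
        simp [Dat.m]
      rw [h1, one_pow, map_one]
    · obtain ⟨g, hg⟩ := isConj_iff.1 (D.m_isConj h)
      have h1 : D.m a b c ^ 3 = 1 := by
        have h2 : (g * D.m a b c * g⁻¹) ^ 3 = 1 := by rw [hg, D.t3]
        rwa [conj_pow, conj_eq_one_iff] at h2
      rw [h1, map_one]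
  have key : ∀ a b c : ℕ, ¬ (3 ∣ a ∧ 3 ∣ b) → ∀ w : Y, w = ι (D.m a b c) → F1 U w = 2 ^ 22 ∧
      F1 U (ι (D.m 0 0 1) * w) = 2 ^ 22 ∧ F1 U (ι (D.m 0 0 1) * w⁻¹) = 2 ^ 22 := by
    rintro a b c hab w rfl
    have hw : (ι (D.m a b c))⁻¹ = ι (D.m a b c * D.m a b c) := by
      rw [inv_eq_iff_mul_eq_one, map_mul, ← pow_two, ← pow_succ']
      exact h3 a b c
    refine ⟨hF _ _ _ fun h => hab ⟨h.1, h.2.1⟩, ?_, ?_⟩
    · rw [← map_mul, D.m_mul]
      refine hF _ _ _ fun h => hab ⟨?_, ?_⟩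
      · have := h.1; omega
      · have := h.2.1; omega
    · rw [hw, ← map_mul, D.m_mul, D.m_mul]
      refine hF _ _ _ fun h => hab ⟨?_, ?_⟩
      · have := h.1; omega
      · have := h.2.1; omega
  have hs2 : (ι (D.m 0 1 0))⁻¹ = ι (D.m 0 2 0) := by
    have h1 : D.m 0 2 0 = D.m 0 1 0 * D.m 0 1 0 := by rw [D.m_mul]
    rw [h1, inv_eq_iff_mul_eq_one, map_mul, ← pow_two, ← pow_succ']
    exact h3 0 1 0
  refine not_all hexp hU (z := ι (D.m 0 0 1)) (x := ι (D.m 1 0 0)) (y := ι (D.m 0 1 0)) (h3 _ _ _) (h3 _ _ _)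
    (h3 _ _ _) ?_ ?_ ?_ ?_ ?_ (hF _ _ _ (by omega)) ?_
  · rw [← map_mul, D.m_mul]; exact h3 _ _ _
  · rw [hs2, ← map_mul, D.m_mul]; exact h3 _ _ _
  · rw [← map_mul, ← map_mul, D.m_mul, D.m_mul]
  · rw [← map_mul, ← map_mul, D.m_mul, D.m_mul]
  · intro u hu
    have h1 : D.m 1 0 0 * D.m 0 1 0 = D.m 0 1 0 * D.m 1 0 0 * D.m 0 0 1 := by
      rw [D.m_mul, D.m_mul, D.m_mul, D.m_mod]
      conv_rhs => rw [D.m_mod]
    rw [← mul_smul, ← mul_smul, ← map_mul, ← map_mul, h1, map_mul, mul_smul, hu]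
  · rintro w (rfl | rfl | rfl | rfl)
    · exact key 1 0 0 (by omega) _ rfl
    · exact key 0 1 0 (by omega) _ rfl
    · refine key 1 1 0 (by omega) _ ?_
      rw [← map_mul, D.m_mul]
    · refine key 1 2 0 (by omega) _ ?_
      rw [hs2, ← map_mul, D.m_mul]

end act

variable {G : Type*} [Group G] [Finite G] {H N : Subgroup G}
variable {T : Type} [Group T] {e : N ≃* (Fin 1 → T)} {U : Type*} [AddCommGroup U] [Finite U] [DistribMulAction G U]

section num

variable {X : Type} [Group X] [Finite X] (hX : Cfsg.Lie.IsoTits X)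

include hX

theorem card_class (y : X) {n : ℕ} (hn : 0 < n) (hy : Nat.card (centralizer ({y} : Set X)) = n) (k : ℕ)
    (hk : n * k = 17971200) : cG y = k := by
  have td := Cfsg.Agent.H631.TitsD.td_of hX
  have h1 : 17971200 = cG y * n := by
    have h2 := cG_mul y
    rwa [td.card, hy] at h2
  have h3 : k * n = cG y * n := by
    rw [← h1, mul_comm]
    exact hk
  exact (Nat.eq_of_mul_eq_mul_right hn h3).symm

omit hX in
theorem card_le_class {r : ℕ} (y : X) (hall : ∀ x : X, orderOf x = r → IsConj y x) :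
    Nat.card {t : X // orderOf t = r} ≤ cG y := by
  rw [cG]
  refine Nat.card_le_card_of_injective (fun t : {t : X // orderOf t = r} =>
    (⟨t.1, hall t.1 t.2⟩ : {x : X // IsConj y x})) ?_
  intro a b hab
  exact Subtype.ext (congrArg (fun z : {x : X // IsConj y x} => z.1) hab)

theorem card_three : Nat.card {t : X // orderOf t = 3} ≤ 166400 := by
  have td := Cfsg.Agent.H631.TitsD.td_of hX
  obtain ⟨y, hy⟩ := exists_prime_orderOf_dvd_card' (G := X) (hp := ⟨Nat.prime_three⟩) 3 (by rw [td.card]; norm_num)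
  rw [← card_class hX y (by norm_num) (td.c3 y hy) 166400 (by norm_num)]
  exact card_le_class y fun x hx => td.conj3 y x hy hx

theorem card_five : Nat.card {t : X // orderOf t = 5} ≤ 359424 := by
  have td := Cfsg.Agent.H631.TitsD.td_of hX
  obtain ⟨y, hy⟩ := exists_prime_orderOf_dvd_card' (G := X) (hp := ⟨Nat.prime_five⟩) 5 (by rw [td.card]; norm_num)
  rw [← card_class hX y (by norm_num) (td.c5 y hy) 359424 (by norm_num)]
  exact card_le_class y fun x hx => (Cfsg.Agent.H235.TitsRow.facts hX).one y x hy hx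

end num

/-- **The row** -/
theorem row (h : EPS H N e) (hT : Cfsg.Lie.IsoTits T)
    (hM : ∀ g ∉ H, ∃ r ∈ ({3, 5, 13} : Finset ℕ), r ∣ Nat.card (H ⊓ cj g H : Subgroup G))
    (D : Data G U 180000) : False := by
  classical
  have hT' := hT
  obtain ⟨eT⟩ := hT'
  have td := Cfsg.Agent.H631.TitsD.td_of hT
  have hfin : Finite T := Nat.finite_of_card_ne_zero (by rw [td.card]; norm_num)
  have hN : NIn N H := h.toNIn
  let e' : N ≃* T := e.trans (MulEquiv.funUnique (Fin 1) T)
  have hrel : N.relIndex H ∣ 2 :=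
    (Cfsg.Agent.H686.EX.relIndex_dvd_out hN h.cent e').trans (Cfsg.Agent.H997.PF.OutPart.card_out_tits hT)
  have hco : ∀ r : ℕ, r.Prime → r ≠ 2 → ¬ r ∣ N.relIndex H := by
    intro r hr h2 hd
    exact h2 ((Nat.prime_dvd_prime_iff_eq hr Nat.prime_two).1 (hd.trans hrel))
  let ι : T →* G := N.subtype.comp e'.symm.toMonoidHom
  have hι : Function.Injective ι := Subtype.val_injective.comp e'.symm.injective
  obtain ⟨D0⟩ := Cfsg.Agent.H87.TitsData.dat_tits
  have hfus := fusion D.exp D.cardU D0 (ι.comp eT.symm.toMonoidHom)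
  have ht0 : orderOf (eT.symm D0.t) = 3 := by
    have : Fact (Nat.Prime 3) := ⟨Nat.prime_three⟩
    refine orderOf_eq_prime ?_ ?_
    · rw [← map_pow, D0.t3, map_one]
    · intro h1
      exact D0.t1 (eT.symm.injective (by rw [h1, map_one]))
  have h3card : (el H 3).card ≤ 166400 := (card_el_le hN e' Nat.prime_three (hco 3 Nat.prime_three (by norm_num))).trans
    (card_three hT)
  have h5card : (el H 5).card ≤ 359424 := (card_el_le hN e' Nat.prime_five (hco 5 Nat.prime_five (by norm_num))).trans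
    (card_five hT)
  have h13card : (el H 13).card ≤ 17971200 := by
    refine (card_el_le hN e' (by norm_num) (hco 13 (by norm_num) (by norm_num))).trans ?_
    rw [← td.card]
    exact Nat.card_le_card_of_injective (fun t : {t : T // orderOf t = 13} => t.1) Subtype.val_injective
  -- elements of order 3
  have hx3 : ∀ x ∈ el H 3, Nat.card (centralizer ({x} : Set G)) ≤ 180000 := by
    intro x hx
    obtain ⟨hxH, hxo⟩ := mem_el.1 hx
    have hxN : x ∈ N := Cfsg.Agent.H686.EX.mem_of_pow hN Nat.prime_three (hco 3 Nat.prime_three (by norm_num)) hxH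
      (by rw [← hxo]; exact pow_orderOf_eq_one x)
    obtain ⟨t, rfl⟩ : ∃ t : T, ι t = x := ⟨e' ⟨x, hxN⟩, by
      show ((e'.symm (e' ⟨x, hxN⟩) : N) : G) = x
      rw [e'.symm_apply_apply]⟩
    have ht : orderOf t = 3 := by rw [← orderOf_injective ι hι]; exact hxo
    have hconj : IsConj (ι (eT.symm D0.t)) (ι t) := ι.map_isConj (td.conj3 _ _ ht0 ht)
    have h2 : 2 ∣ Nat.card (centralizer ({ι t} : Set G)) := by
      have h1 : Nat.card ((centralizer ({t} : Set T)).map ι) = 108 := by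
        rw [card_map_of_injective hι, td.c3 t ht]
      have h2 : (centralizer ({t} : Set T)).map ι ≤ centralizer ({ι t} : Set G) := by
        rintro _ ⟨c, hc, rfl⟩
        rw [mem_centralizer_singleton_iff, ← map_mul, mem_centralizer_singleton_iff.1 hc, map_mul]
      have h3 := Subgroup.card_dvd_of_le h2
      rw [h1] at h3
      exact (by norm_num : (2 : ℕ) ∣ 108).trans h3
    rcases D.three _ hxo h2 with ⟨h4, -⟩ | ⟨-, h5⟩
    · exact (hfus ((L43.F1_conj hconj).trans h4)).elim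
    · exact h5
  have s3 := sum_le (H := H) (r := 3) 166400 (166400 * 180000) _ D.card h3card (by
    intro x hx
    exact Nat.mul_le_mul ((cH_le_el (mem_el.1 hx).2).trans h3card) (hx3 x hx))
  have s5 := sum_le (H := H) (r := 5) 359424 (359424 * 10800) _ D.card h5card (by
    intro x hx
    have hx5 := (mem_el.1 hx).2
    exact Nat.mul_le_mul ((cH_le_el hx5).trans h5card) (D.five x hx5))
  have s13 := sum_le (H := H) (r := 13) 17971200 (17971200 * 13) _ D.card h13card (by
    intro x hx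
    have hx5 := (mem_el.1 hx).2
    exact Nat.mul_le_mul ((cH_le_el hx5).trans h13card) (D.thirteen x hx5))
  have hpi := e_pi_class H {3, 5, 13} (by
    intro r hr
    simp only [Finset.mem_insert, Finset.mem_singleton] at hr
    rcases hr with rfl | rfl | rfl <;> norm_num) hM
  rw [Finset.sum_insert (by norm_num), Finset.sum_insert (by norm_num), Finset.sum_singleton] at hpi
  have hHcard : Nat.card H ≤ 2 * 17971200 := by
    have h2 : Nat.card N * N.relIndex H = Nat.card H := by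
      have h3 := (N.subgroupOf H).card_mul_index
      rwa [Nat.card_congr (Subgroup.subgroupOfEquivOfLe hN.le).toEquiv] at h3
    rw [← h2, Nat.card_congr e'.toEquiv, td.card, mul_comm]
    exact Nat.mul_le_mul_right _ (Nat.le_of_dvd (by norm_num) hrel)
  have hidx : 1000 ≤ H.index := by
    have h1 := H.card_mul_index
    rw [D.card] at h1
    by_contra hcon
    push Not at hcon
    have h2 : Nat.card H * H.index ≤ (2 * 17971200) * 1000 := Nat.mul_le_mul hHcard hcon.le
    rw [h1] at h2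
    norm_num at h2
  have hidx' : (1000 : ℚ) ≤ H.index := by exact_mod_cast hidx
  have hb : (1 / (((3 : ℕ) : ℚ) - 1)) * ∑ x ∈ el H 3, (cH H x / cG x : ℚ) +
      ((1 / (((5 : ℕ) : ℚ) - 1)) * ∑ x ∈ el H 5, (cH H x / cG x : ℚ) +
        (1 / (((13 : ℕ) : ℚ) - 1)) * ∑ x ∈ el H 13, (cH H x / cG x : ℚ)) ≤ 998 / 1000 := by
    push_cast at s3 s5 s13 ⊢
    norm_num at s3 s5 s13 ⊢
    linarith
  have h9 := mul_le_mul_of_nonneg_left hb (show (0 : ℚ) ≤ H.index by linarith)
  linarith

end Cfsg.Agent.H146.F42.Tits
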